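import Mathlib
import Groth.Agent.DivPts.SectionFibre

/-!
# Infinitesimal rigidity along a fibre with constant global functions

For a flat morphism with a section whose fibre over `s` has only constant functions, a function
near the fibre vanishing along the section at `s` has zero germs along the fibre.
-/

set_option autoImplicit false
set_option backward.isDefEq.respectTransparency.types false

universe u

open CategoryTheory CategoryTheory.Limits AlgebraicGeometry TopologicalSpace Opposite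

namespace Groth.Agent.RigidClosed

/-- Colon ideals commute with flat extension. -/
theorem mem_map_of_mul_mem {A B : Type u} [CommRing A] [CommRing B] (φ : A →+* B) (hφ : φ.Flat)
    {ι : Type} [Fintype ι] (j : ι → A) (t : A) (𝔪 : Ideal A)
    (hcol : ∀ a : A, t * a ∈ Ideal.span (Set.range j) → a ∈ 𝔪)
    (c : B) (d : ι → B) (h : φ t * c + ∑ i, φ (j i) * d i = 0) : c ∈ 𝔪.map φ := by
  letI := φ.toAlgebra
  haveI : Module.Flat A B := hφ
  let f : Option ι → A := fun o => o.elim t j
  let x : Option ι → B := fun o => o.elim c d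
  have hs : ∑ o, f o • x o = 0 := by
    rw [Fintype.sum_option]
    simpa [f, x, Algebra.smul_def, RingHom.algebraMap_toAlgebra] using h
  obtain ⟨n, a, y, hx, ha⟩ := Module.Flat.isTrivialRelation_of_sum_smul_eq_zero (R := A) (M := B) (f := f) (x := x) hs
  have hc : c = ∑ k, φ (a none k) * y k := by
    simpa [x, Algebra.smul_def, RingHom.algebraMap_toAlgebra] using hx none
  rw [hc]
  refine Ideal.sum_mem _ fun k _ => Ideal.mul_mem_right _ _ (Ideal.mem_map_of_mem _ (hcol _ ?_))
  have := ha k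
  rw [Fintype.sum_option] at this
  have h2 : t * a none k = -∑ i, j i * a (some i) k := by
    rw [eq_neg_iff_add_eq_zero]; simpa [f] using this
  rw [h2]
  exact neg_mem (Ideal.sum_mem _ fun i _ =>
    Ideal.mul_mem_right _ _ (Ideal.subset_span ⟨i, rfl⟩))

theorem mem_map_span_range {A B : Type u} [CommRing A] [CommRing B] (φ : A →+* B)
    {ι : Type} [Fintype ι] (j : ι → A) {b : B} (hb : b ∈ (Ideal.span (Set.range j)).map φ) :
    ∃ d : ι → B, ∑ i, φ (j i) * d i = b := by
  rw [Ideal.map_span, ← Set.range_comp, Ideal.mem_span_range_iff_exists_fun] at hb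
  obtain ⟨d, hd⟩ := hb
  exact ⟨d, by simpa [mul_comm] using hd⟩

/-- The socle step. -/
theorem exists_socle {A : Type u} [CommRing A] [IsLocalRing A] {J : Ideal A} (hJ : J ≠ ⊤)
    {N : ℕ} (hN : IsLocalRing.maximalIdeal A ^ N ≤ J) :
    ∃ t, t ∉ J ∧ ∀ a ∈ IsLocalRing.maximalIdeal A, t * a ∈ J := by
  induction N with
  | zero => exact absurd (top_unique (by simpa using hN)) hJ
  | succ N ih =>
    by_cases h : IsLocalRing.maximalIdeal A ^ N ≤ J
    · exact ih h
    · obtain ⟨t, ht, htJ⟩ := Set.not_subset.mp h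
      exact ⟨t, htJ, fun a ha => hN (by rw [pow_succ]; exact Ideal.mul_mem_mul ht ha)⟩

variable {X S : Scheme.{u}} (p : X ⟶ S)

theorem res_res {A B C : X.Opens} (k : C ⟶ B) (i : B ⟶ A) (j : C ⟶ A) (r : Γ(X, A)) :
    X.presheaf.map k.op (X.presheaf.map i.op r) = X.presheaf.map j.op r := by
  rw [← CommRingCat.comp_apply, ← Functor.map_comp, Subsingleton.elim (i.op ≫ k.op) j.op]

theorem exists_open_sections (s : S) {n : ℕ} (j : Fin n → S.presheaf.stalk s) :
    ∃ (U : S.Opens) (hs : s ∈ U) (r : Fin n → Γ(S, U)), ∀ i, S.presheaf.germ U s hs (r i) = j i := by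
  choose U hU r hr using fun i => TopCat.Presheaf.exists_germ_eq S.presheaf (j i)
  let V : S.Opens := ⟨⋂ i, (U i : Set S), isOpen_iInter_of_finite fun i => (U i).2⟩
  have hV : s ∈ V := Set.mem_iInter.mpr hU
  have hle : ∀ i, V ≤ U i := fun i x hx => Set.mem_iInter.mp hx i
  exact ⟨V, hV, fun i => S.presheaf.map (homOfLE (hle i)).op (r i),
    fun i => (TopCat.Presheaf.germ_res_apply _ _ _ _ _).trans (hr i)⟩

/-- `O_{S,s} → O_{X,x}` for `x` over `s`. -/
noncomputable def theta {x : X} {s : S} (h : p x = s) : S.presheaf.stalk s ⟶ X.presheaf.stalk x :=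
  S.presheaf.stalkSpecializes (specializes_of_eq h) ≫ p.stalkMap x

theorem theta_germ {x : X} {s : S} (h : p x = s) {U : S.Opens} (hs : s ∈ U) (r : Γ(S, U)) :
    theta p h (S.presheaf.germ U s hs r) =
      X.presheaf.germ (p ⁻¹ᵁ U) x (show p x ∈ U from h ▸ hs) (p.app U r) := by
  rw [theta, ← CommRingCat.comp_apply, TopCat.Presheaf.germ_stalkSpecializes_assoc,
    CommRingCat.comp_apply, Scheme.Hom.germ_stalkMap_apply]

theorem theta_flat [Flat p] {x : X} {s : S} (h : p x = s) : (theta p h).hom.Flat := by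
  subst h
  simpa [theta] using Flat.stalkMap p x

theorem theta_map_le {x : X} {s : S} (h : p x = s) :
    (IsLocalRing.maximalIdeal (S.presheaf.stalk s)).map (theta p h).hom ≤
      IsLocalRing.maximalIdeal (X.presheaf.stalk x) := by
  subst h
  refine Ideal.map_le_iff_le_comap.2 fun a ha => ?_
  rw [Ideal.mem_comap, IsLocalRing.mem_maximalIdeal, mem_nonunits_iff]
  simp only [theta, TopCat.Presheaf.stalkSpecializes_refl, Category.id_comp]
  rw [isUnit_map_iff]
  exact ha

theorem fiber_point (s : S) (w : p.fiber s) : p (p.fiberι s w) = s := by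
  have h := congr($(p.fiber_fac s) w)
  simp only [Scheme.Hom.comp_apply] at h
  exact h.trans (S.fromSpecResidueField_apply _ _)

theorem fiber_stalk_eq_zero (s : S) (w : p.fiber s) {b : X.presheaf.stalk (p.fiberι s w)}
    (hb : b ∈ (IsLocalRing.maximalIdeal (S.presheaf.stalk s)).map
      (theta p (fiber_point p s w)).hom) :
    ((p.fiberι s).stalkMap w).hom b = 0 := by
  refine (Ideal.map_le_iff_le_comap.2 fun a ha => ?_ :
    (IsLocalRing.maximalIdeal (S.presheaf.stalk s)).map (theta p (fiber_point p s w)).hom ≤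
      RingHom.ker ((p.fiberι s).stalkMap w).hom) hb
  rw [Ideal.mem_comap, RingHom.mem_ker, theta, CommRingCat.hom_comp, RingHom.comp_apply]
  refine DivPts.stalkMap_fiberι_eq_zero p s w ?_
  have key : ∀ (s : S) (y : S) (h : y = s) (a : S.presheaf.stalk s),
      a ∈ IsLocalRing.maximalIdeal _ →
      S.presheaf.stalkSpecializes (specializes_of_eq h) a ∈ IsLocalRing.maximalIdeal _ := by
    rintro s _ rfl a ha
    simpa using ha
  exact key _ _ (fiber_point p s w) a ha

theorem mem_of_fiber_stalk_eq_zero (s : S) (w : p.fiber s) {b : X.presheaf.stalk (p.fiberι s w)}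
    (hb : ((p.fiberι s).stalkMap w).hom b = 0) :
    b ∈ (IsLocalRing.maximalIdeal (S.presheaf.stalk s)).map
      (theta p (fiber_point p s w)).hom := by
  have h := DivPts.ker_fiberι_stalkMap_le p s w (RingHom.mem_ker.mpr hb)
  have key : ∀ (s : S) (h : p (p.fiberι _ w) = s),
      (IsLocalRing.maximalIdeal (S.presheaf.stalk (p (p.fiberι _ w)))).map
        (p.stalkMap (p.fiberι _ w)).hom =
      (IsLocalRing.maximalIdeal (S.presheaf.stalk s)).map (theta p h).hom := by
    rintro _ rfl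
    simp [theta]
  rwa [key s (fiber_point p s w)] at h

theorem residue_eq_zero {s : S} {U : S.Opens} (hs : s ∈ U) (r : Γ(S, U))
    (hr : S.presheaf.germ U s hs r ∈ IsLocalRing.maximalIdeal (S.presheaf.stalk s))
    (e : ⊤ ≤ S.fromSpecResidueField s ⁻¹ᵁ U) :
    (S.fromSpecResidueField s).appLE U ⊤ e r = 0 := by
  let pt : Spec (S.residueField s) := IsLocalRing.closedPoint _
  have hzu : ∀ z : Γ(Spec (S.residueField s), ⊤), z = 0 ∨ IsUnit z := fun z => by
    have hu := (Scheme.ΓSpecIso (S.residueField s)).commRingCatIsoToRingEquiv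
    by_cases h0 : (Scheme.ΓSpecIso (S.residueField s)).hom z = 0
    · left
      have := congrArg (Scheme.ΓSpecIso (S.residueField s)).inv h0
      rwa [map_zero, ← CommRingCat.comp_apply, Iso.hom_inv_id] at this
    · right
      have h1 : IsUnit ((Scheme.ΓSpecIso (S.residueField s)).hom z) := Ne.isUnit h0
      have h2 := h1.map (Scheme.ΓSpecIso (S.residueField s)).inv.hom
      rwa [← CommRingCat.comp_apply, Iso.hom_inv_id] at h2
  refine (hzu _).resolve_right fun hu => ?_
  have hpt : S.fromSpecResidueField s pt = s := S.fromSpecResidueField_apply _ _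
  have h1 : IsUnit ((Spec (S.residueField s)).presheaf.germ ⊤ pt trivial
      ((S.fromSpecResidueField s).appLE U ⊤ e r)) := hu.map _
  rw [Scheme.Hom.appLE, CommRingCat.comp_apply, TopCat.Presheaf.germ_res_apply,
    ← Scheme.Hom.germ_stalkMap_apply, isUnit_map_iff] at h1
  have key : ∀ (y : S) (_ : y = s) (hy : y ∈ U), IsUnit (S.presheaf.germ U y hy r) →
      IsUnit (S.presheaf.germ U s hs r) := by
    rintro _ rfl hy h; exact h
  exact hr (key _ hpt _ h1)

variable [Flat p]

theorem germ_mem_of_mem_sup [IsLocallyNoetherian S] (e : S ⟶ X) (he : e ≫ p = 𝟙 S) (s : S)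
    (h0 : Function.Bijective (pullback.snd p (S.fromSpecResidueField s)).appTop)
    {O : X.Opens} (hO : ∀ x, p x = s → x ∈ O) (g : Γ(X, O))
    (hes : e s ∈ O) (hg : S.presheaf.germ (e ⁻¹ᵁ O) s hes (e.app O g) = 0)
    {J : Ideal (S.presheaf.stalk s)} {t : S.presheaf.stalk s} (ht : t ∉ J)
    (htm : ∀ a ∈ IsLocalRing.maximalIdeal (S.presheaf.stalk s), t * a ∈ J)
    (hI : ∀ x (hx : p x = s),
      X.presheaf.germ O x (hO x hx) g ∈ (J ⊔ Ideal.span {t}).map (theta p hx).hom)
    (x : X) (hx : p x = s) :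
    X.presheaf.germ O x (hO x hx) g ∈ J.map (theta p hx).hom := by
  let A := S.presheaf.stalk s
  obtain ⟨n, j, hj⟩ := Submodule.fg_iff_exists_fin_generating_family.mp (IsNoetherian.noetherian J)
  obtain ⟨U, hsU, r, hr⟩ := exists_open_sections s (Fin.cons t j : Fin (n + 1) → A)
  have hr0 : S.presheaf.germ U s hsU (r 0) = t := hr 0
  have hrs : ∀ i, S.presheaf.germ U s hsU (r i.succ) = j i := fun i => hr i.succ
  have hcol : ∀ a : A, t * a ∈ Ideal.span (Set.range j) → a ∈ IsLocalRing.maximalIdeal A := by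
    intro a ha
    by_contra hu
    rw [IsLocalRing.mem_maximalIdeal, mem_nonunits_iff, not_not] at hu
    exact ht ((Ideal.mul_unit_mem_iff_mem J hu).mp (hj ▸ ha))
  -- local expressions
  have hloc : ∀ w : p.fiber s, ∃ (V : X.Opens) (_ : p.fiberι s w ∈ V) (hVO : V ≤ O)
      (hVU : V ≤ p ⁻¹ᵁ U) (c : Γ(X, V)) (d : Fin n → Γ(X, V)),
      X.presheaf.map (homOfLE hVO).op g =
        X.presheaf.map (homOfLE hVU).op (p.app U (r 0)) * c +
          ∑ i, X.presheaf.map (homOfLE hVU).op (p.app U (r i.succ)) * d i := by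
    intro w
    have hw := fiber_point p s w
    have hm := hI _ hw
    rw [Ideal.map_sup, Submodule.mem_sup] at hm
    obtain ⟨y, hy, z, hz, hyz⟩ := hm
    rw [← hj] at hy
    obtain ⟨d₀, rfl⟩ := mem_map_span_range _ j hy
    rw [Ideal.map_span, Set.image_singleton, Ideal.mem_span_singleton] at hz
    obtain ⟨c₀, rfl⟩ := hz
    let V₀ : X.Opens := O ⊓ p ⁻¹ᵁ U
    have hwV₀ : p.fiberι s w ∈ V₀ := ⟨hO _ hw, show p _ ∈ U from hw.symm ▸ hsU⟩
    choose Vd hVd sd hsd using fun i => TopCat.Presheaf.exists_germ_eq X.presheaf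
      ((Fin.cons c₀ d₀ : Fin (n + 1) → X.presheaf.stalk (p.fiberι s w)) i)
    let V₁ : X.Opens := V₀ ⊓ ⟨⋂ i, (Vd i : Set X), isOpen_iInter_of_finite fun i => (Vd i).2⟩
    have hwV₁ : p.fiberι s w ∈ V₁ := ⟨hwV₀, Set.mem_iInter.mpr hVd⟩
    have hl : ∀ i, V₁ ≤ Vd i := fun i x hx => Set.mem_iInter.mp hx.2 i
    let D : Fin (n + 1) → Γ(X, V₁) := fun i => X.presheaf.map (homOfLE (hl i)).op (sd i)
    have hD : ∀ i, X.presheaf.germ V₁ _ hwV₁ (D i) =
        (Fin.cons c₀ d₀ : Fin (n + 1) → X.presheaf.stalk (p.fiberι s w)) i :=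
      fun i => (TopCat.Presheaf.germ_res_apply _ _ _ _ _).trans (hsd i)
    have hgerm : X.presheaf.germ V₁ _ hwV₁
          (X.presheaf.map (homOfLE (inf_le_left.trans inf_le_left : V₁ ≤ O)).op g) =
        X.presheaf.germ V₁ _ hwV₁
          (X.presheaf.map (homOfLE (inf_le_left.trans inf_le_right : V₁ ≤ p ⁻¹ᵁ U)).op
              (p.app U (r 0)) * D 0 +
            ∑ i : Fin n, X.presheaf.map (homOfLE (inf_le_left.trans inf_le_right : V₁ ≤ p ⁻¹ᵁ U)).op
              (p.app U (r i.succ)) * D i.succ) := by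
      simp only [map_add, map_mul, map_sum, TopCat.Presheaf.germ_res_apply, hD, Fin.cons_zero,
        Fin.cons_succ]
      rw [← theta_germ p hw hsU (r 0), hr0, ← hyz]
      simp only [← theta_germ p hw hsU, hrs]
      exact add_comm _ _
    obtain ⟨W, hwW, iW, iW', hW⟩ := X.presheaf.germ_eq _ hwV₁ hwV₁ _ _ hgerm
    refine ⟨W, hwW, iW.le.trans (inf_le_left.trans inf_le_left),
      iW.le.trans (inf_le_left.trans inf_le_right), X.presheaf.map iW.op (D 0),
      fun i => X.presheaf.map iW.op (D i.succ), ?_⟩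
    rw [Subsingleton.elim iW' iW] at hW
    refine (res_res iW _ _ g).symm.trans (hW.trans ?_)
    simp only [map_add, map_mul, map_sum]
    congr 1
    · congr 1
      exact res_res iW _ _ _
    · refine Finset.sum_congr rfl fun i _ => ?_
      congr 1
      exact res_res iW _ _ _
  choose V hwV hVO hVU c d heq using hloc
  -- germs on the fibre
  let ι := p.fiberι s
  let cb : ∀ w, Γ(p.fiber s, ι ⁻¹ᵁ V w) := fun w => ι.app (V w) (c w)
  have hgermeq : ∀ (w : p.fiber s) (y : X) (hy : p y = s) (hyV : y ∈ V w),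
      X.presheaf.germ O y (hO y hy) g =
        (theta p hy).hom t * X.presheaf.germ (V w) y hyV (c w) +
          ∑ i, (theta p hy).hom (j i) * X.presheaf.germ (V w) y hyV (d w i) := by
    intro w y hy hyV
    have := congrArg (X.presheaf.germ (V w) y hyV) (heq w)
    simp only [map_add, map_mul, map_sum, TopCat.Presheaf.germ_res_apply] at this
    rw [this]
    simp only [← theta_germ p hy hsU, hr0, hrs]
  have hdiff : ∀ (w w' v : p.fiber s) (h₁ : ι v ∈ V w) (h₂ : ι v ∈ V w'),
      ((ι).stalkMap v).hom (X.presheaf.germ (V w) (ι v) h₁ (c w)) =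
        ((ι).stalkMap v).hom (X.presheaf.germ (V w') (ι v) h₂ (c w')) := by
    intro w w' v h₁ h₂
    have hv := fiber_point p s v
    rw [← sub_eq_zero, ← map_sub]
    refine fiber_stalk_eq_zero p s v
      (mem_map_of_mul_mem _ (theta_flat p hv) j t _ hcol _
        (fun i => X.presheaf.germ (V w) (ι v) h₁ (d w i) - X.presheaf.germ (V w') (ι v) h₂ (d w' i))
        ?_)
    have e1 := hgermeq w _ hv h₁
    have e2 := hgermeq w' _ hv h₂
    simp only [mul_sub, Finset.sum_sub_distrib]
    linear_combination e2 - e1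
  let F := (p.fiber s).sheaf
  obtain ⟨C, hC, -⟩ := F.existsUnique_gluing' (fun w => ι ⁻¹ᵁ V w) ⊤ (fun w => homOfLE le_top)
    (fun w _ => Opens.mem_iSup.mpr ⟨w, hwV w⟩) cb (fun w w' => by
      refine TopCat.Presheaf.section_ext F _ _ _ fun v hv => ?_
      erw [TopCat.Presheaf.germ_res_apply, TopCat.Presheaf.germ_res_apply]
      have := hdiff w w' v hv.1 hv.2
      rw [Scheme.Hom.germ_stalkMap_apply, Scheme.Hom.germ_stalkMap_apply] at this
      exact this)
  obtain ⟨γ, hγ⟩ := h0.2 C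
  -- the section at `s`
  have hes0 : (S.fromSpecResidueField s ≫ e) ≫ p = 𝟙 _ ≫ S.fromSpecResidueField s := by
    rw [Category.assoc, he, Category.comp_id, Category.id_comp]
  let es : Spec (S.residueField s) ⟶ p.fiber s :=
    pullback.lift (S.fromSpecResidueField s ≫ e) (𝟙 _) hes0
  have hsn : es ≫ pullback.snd p (S.fromSpecResidueField s) = 𝟙 _ := pullback.lift_snd _ _ _
  have hesι : es ≫ ι = S.fromSpecResidueField s ≫ e := pullback.lift_fst _ _ _
  let pt : Spec (S.residueField s) := IsLocalRing.closedPoint _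
  let w₀ : p.fiber s := es pt
  have hιw₀ : ι w₀ = e s := by
    rw [← Scheme.Hom.comp_apply, hesι, Scheme.Hom.comp_apply, Scheme.fromSpecResidueField_apply]
  have hV₀ : e s ∈ V w₀ := hιw₀ ▸ hwV w₀
  -- `e^* c` at `s` is in the maximal ideal
  have hpes : p (e s) = s := by rw [← Scheme.Hom.comp_apply, he]; rfl
  have hcm : S.presheaf.germ (e ⁻¹ᵁ V w₀) s hV₀ (e.app (V w₀) (c w₀)) ∈
      IsLocalRing.maximalIdeal A := by
    have hret : ∀ a : A, e.stalkMap s ((theta p hpes) a) = a := by
      intro a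
      obtain ⟨U', hU', a', rfl⟩ := TopCat.Presheaf.exists_germ_eq S.presheaf a
      rw [theta_germ, Scheme.Hom.germ_stalkMap_apply, ← CommRingCat.comp_apply (p.app U'),
        ← Scheme.Hom.comp_app]
      have key : ∀ (k : S ⟶ S) (_ : k = 𝟙 S) (hk : s ∈ k ⁻¹ᵁ U'),
          S.presheaf.germ (k ⁻¹ᵁ U') s hk (k.app U' a') = S.presheaf.germ U' s hU' a' := by
        rintro _ rfl hk; rfl
      exact key _ he _
    have := congrArg (e.stalkMap s) (hgermeq w₀ _ hpes hV₀)
    simp only [map_add, map_mul, map_sum, Scheme.Hom.germ_stalkMap_apply, hg] at this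
    simp only [hret] at this
    refine hcol _ ?_
    rw [eq_neg_of_add_eq_zero_left this.symm]
    exact neg_mem (Ideal.sum_mem _ fun i _ =>
      Ideal.mul_mem_right _ _ (Ideal.subset_span ⟨i, rfl⟩))
  have hγ0 : γ = 0 := by
    have h1 : γ = es.appTop C := by
      refine Eq.trans ?_ (congrArg es.appTop hγ)
      change γ = ((pullback.snd p (S.fromSpecResidueField s)).appTop ≫ es.appTop) γ
      erw [← Scheme.Hom.comp_appTop, hsn]
      rfl
    have etop : ⊤ ≤ es ⁻¹ᵁ (ι ⁻¹ᵁ V w₀) := fun q _ => by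
      rw [Subsingleton.elim q pt]; exact hwV w₀
    have h2 : es.appTop C = es.appLE (ι ⁻¹ᵁ V w₀) ⊤ etop (cb w₀) := by
      rw [← hC w₀]
      change _ = ((p.fiber s).presheaf.map _ ≫ es.appLE _ ⊤ etop) C
      rw [Scheme.Hom.map_appLE]
      simp [Scheme.Hom.app_eq_appLE]
    have etop2 : ⊤ ≤ (S.fromSpecResidueField s ≫ e) ⁻¹ᵁ V w₀ := by rw [← hesι]; exact etop
    have h3 : es.appLE (ι ⁻¹ᵁ V w₀) ⊤ etop (cb w₀) =
        (S.fromSpecResidueField s).appLE (e ⁻¹ᵁ V w₀) ⊤ etop2 (e.app (V w₀) (c w₀)) := by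
      change (ι.app (V w₀) ≫ es.appLE _ ⊤ etop) (c w₀) = _
      rw [← CommRingCat.comp_apply, Scheme.Hom.app_eq_appLE, Scheme.Hom.app_eq_appLE,
        Scheme.Hom.appLE_comp_appLE, Scheme.Hom.appLE_comp_appLE]
      have key : ∀ (k k' : Spec (S.residueField s) ⟶ X) (_ : k = k') (h₁ : ⊤ ≤ k ⁻¹ᵁ V w₀)
          (h₂ : ⊤ ≤ k' ⁻¹ᵁ V w₀), k.appLE _ ⊤ h₁ = k'.appLE _ ⊤ h₂ := by
        rintro k _ rfl _ _; rfl
      rw [key _ _ hesι _ etop2]
    rw [h1, h2, h3]
    exact residue_eq_zero (U := e ⁻¹ᵁ V w₀) hV₀ _ hcm etop2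
  -- conclude
  obtain ⟨w, hw⟩ : x ∈ Set.range (p.fiberι s) := by rw [p.range_fiberι]; exact hx
  subst hw
  have hcw : X.presheaf.germ (V w) (ι w) (hwV w) (c w) ∈
      (IsLocalRing.maximalIdeal A).map (theta p (fiber_point p s w)).hom := by
    refine mem_of_fiber_stalk_eq_zero p s w ?_
    rw [Scheme.Hom.germ_stalkMap_apply]
    have : cb w = 0 := by
      refine (hC w).symm.trans ?_
      have hC0 : C = 0 := hγ.symm.trans (by rw [hγ0]; exact map_zero _)
      rw [hC0]
      exact map_zero _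
    exact (congrArg _ this).trans (map_zero _)
  rw [hgermeq w _ hx (hwV w)]
  refine add_mem ?_ (Ideal.sum_mem _ fun i _ => Ideal.mul_mem_right _ _ (Ideal.mem_map_of_mem _
    (hj ▸ Ideal.subset_span ⟨i, rfl⟩)))
  have : (theta p hx).hom t * X.presheaf.germ (V w) (ι w) (hwV w) (c w) ∈
      (Ideal.span {t} * IsLocalRing.maximalIdeal A).map (theta p hx).hom := by
    rw [Ideal.map_mul]
    exact Ideal.mul_mem_mul (Ideal.mem_map_of_mem _ (Ideal.mem_span_singleton_self t)) hcw
  refine Ideal.map_mono ?_ this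
  rw [Ideal.mul_le]
  intro a ha b hb
  obtain ⟨a', rfl⟩ := Ideal.mem_span_singleton'.mp ha
  rw [mul_assoc]
  exact Ideal.mul_mem_left _ _ (htm b hb)

/-- Germs along the fibre of a function vanishing on the section are zero. -/
theorem germ_eq_zero [IsLocallyNoetherian S] [IsLocallyNoetherian X] (e : S ⟶ X)
    (he : e ≫ p = 𝟙 S) (s : S)
    (h0 : Function.Bijective (pullback.snd p (S.fromSpecResidueField s)).appTop)
    {O : X.Opens} (hO : ∀ x, p x = s → x ∈ O) (g : Γ(X, O))
    (hes : e s ∈ O) (hg : S.presheaf.germ (e ⁻¹ᵁ O) s hes (e.app O g) = 0)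
    (x : X) (hx : p x = s) : X.presheaf.germ O x (hO x hx) g = 0 := by
  let A := S.presheaf.stalk s
  have key : ∀ (J : Ideal A), (∃ N, IsLocalRing.maximalIdeal A ^ N ≤ J) →
      ∀ x (hx : p x = s), X.presheaf.germ O x (hO x hx) g ∈ J.map (theta p hx).hom := by
    intro J
    induction J using IsNoetherian.induction with
    | hgt J ih =>
      rintro ⟨N, hN⟩
      by_cases hJ : J = ⊤
      · subst hJ
        intro x hx
        simp [Ideal.map_top]
      obtain ⟨t, ht, htm⟩ := exists_socle hJ hN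
      have hlt : J < J ⊔ Ideal.span {t} := lt_of_le_of_ne le_sup_left fun h =>
        ht (h ▸ Ideal.mem_sup_right (Ideal.mem_span_singleton_self t))
      exact germ_mem_of_mem_sup p e he s h0 hO g hes hg ht htm
        (ih _ hlt ⟨N, hN.trans le_sup_left⟩)
  have hmem : ∀ n : ℕ, X.presheaf.germ O x (hO x hx) g ∈
      IsLocalRing.maximalIdeal (X.presheaf.stalk x) ^ n := by
    intro n
    have := key _ ⟨n, le_rfl⟩ x hx
    rw [Ideal.map_pow] at this
    exact Ideal.pow_right_mono (theta_map_le p hx) n this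
  have h2 := Ideal.mem_iInf.mpr hmem
  rwa [Ideal.iInf_pow_eq_bot_of_isLocalRing _ (IsLocalRing.maximalIdeal.isMaximal _).ne_top] at h2

end Groth.Agent.RigidClosed
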