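import Mathlib
import Groth.Agent.RigidClosed.Infinitesimal

/-!
# Rigidity for a closed flat morphism with a section
-/

set_option autoImplicit false
set_option backward.isDefEq.respectTransparency.types false

universe u

open CategoryTheory CategoryTheory.Limits AlgebraicGeometry TopologicalSpace Opposite

namespace Groth.Agent.RigidClosed

variable {X S Y : Scheme.{u}} (p : X ⟶ S)

/-- A closed subset of generalisation-closed open kind is closed in a locally Noetherian space. -/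
theorem isClosed_of_isOpen_of_stable [IsLocallyNoetherian S] {T : Set S} (hT : IsOpen T)
    (hst : ∀ a b : S, a ⤳ b → a ∈ T → b ∈ T) : IsClosed T := by
  refine isClosed_of_closure_subset fun t ht => ?_
  obtain ⟨U, hU, htU, -⟩ := exists_isAffineOpen_mem_and_subset (x := t) (U := ⊤) trivial
  haveI : IsNoetherianRing Γ(S, U) := IsLocallyNoetherian.component_noetherian ⟨U, hU⟩
  haveI : IsAffine U.toScheme := hU
  haveI : NoetherianSpace (U : Scheme.{u}) :=
    noetherianSpace_of_isAffineOpen U hU |> fun h => h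
  let T' : Set (U : Scheme.{u}) := U.ι ⁻¹' T
  have htT' : (⟨t, htU⟩ : (U : Scheme.{u})) ∈ closure T' := by
    rw [U.ι.isOpenEmbedding.isOpenMap.preimage_closure_eq_closure_preimage U.ι.continuous T |>.symm]
    exact ht
  have hfin := NoetherianSpace.finite_irreducibleComponents (α := (U : Scheme.{u}))
  have hcov : T' ⊆ ⋃ C ∈ irreducibleComponents (U : Scheme.{u}), T' ∩ C := fun z hz =>
    Set.mem_biUnion (irreducibleComponent_mem_irreducibleComponents z) ⟨hz, mem_irreducibleComponent⟩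
  have h1 := closure_mono hcov htT'
  rw [hfin.closure_biUnion] at h1
  obtain ⟨C, hC, htC⟩ := Set.mem_iUnion₂.mp h1
  have hCc : IsClosed C := isClosed_of_mem_irreducibleComponents C hC
  have hne : (C ∩ T').Nonempty := by
    rw [Set.inter_comm]
    exact closure_nonempty_iff.mp ⟨_, htC⟩
  obtain ⟨η, hη⟩ := QuasiSober.sober hC.1 hCc
  have hηT : η ∈ T' := (hT.preimage U.ι.continuous).mem_nhds_iff.mpr ?_ |> fun h => mem_of_mem_nhds h
  · have hspec : η ⤳ ⟨t, htU⟩ := hη.specializes (closure_minimal Set.inter_subset_right hCc htC)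
    exact hst _ _ (hspec.map U.ι.continuous) hηT
  · obtain ⟨z, hzC, hzT⟩ := hne
    exact (hη.specializes hzC).mem_open (hT.preimage U.ι.continuous) hzT

theorem exists_generalization [Flat p] {x : X} {a : S} (h : a ⤳ p x) :
    ∃ x' : X, x' ⤳ x ∧ p x' = a := by
  have ha : a ∈ Set.range (S.fromSpecStalk (p x)) := by rw [Scheme.range_fromSpecStalk]; exact h
  obtain ⟨P, rfl⟩ := ha
  have hcl : PrimeSpectrum.comap (p.stalkMap x).hom (IsLocalRing.closedPoint _) =
      IsLocalRing.closedPoint _ := by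
    apply PrimeSpectrum.ext
    refine le_antisymm (IsLocalRing.le_maximalIdeal (Ideal.IsPrime.ne_top inferInstance)) ?_
    intro b hb
    change (p.stalkMap x).hom b ∈ IsLocalRing.maximalIdeal _
    rw [IsLocalRing.mem_maximalIdeal, mem_nonunits_iff, isUnit_map_iff]
    exact hb
  obtain ⟨Q, -, hQ⟩ := RingHom.Flat.generalizingMap_comap (Flat.stalkMap p x)
    (show P ⤳ PrimeSpectrum.comap (p.stalkMap x).hom (IsLocalRing.closedPoint _) by
      rw [hcl]
      exact (PrimeSpectrum.le_iff_specializes P _).mp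
        (IsLocalRing.le_maximalIdeal (Ideal.IsPrime.ne_top inferInstance)))
  refine ⟨X.fromSpecStalk x Q, ?_, ?_⟩
  · have : X.fromSpecStalk x Q ∈ Set.range (X.fromSpecStalk x) := ⟨Q, rfl⟩
    rwa [Scheme.range_fromSpecStalk] at this
  · rw [← hQ, ← Scheme.Hom.comp_apply, ← Scheme.SpecMap_stalkMap_fromSpecStalk,
      Scheme.Hom.comp_apply]
    rfl

/-- Two morphisms into `Y` agreeing on germs of functions at a point agree near it. -/
theorem exists_nhd_eq [IsLocallyNoetherian X] {W : Y.Opens} (hW : IsAffineOpen W) (f h : X ⟶ Y)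
    {O : X.Opens} (hf : O ≤ f ⁻¹ᵁ W) (hh : O ≤ h ⁻¹ᵁ W) {x : X} (hx : x ∈ O)
    (hg : ∀ a, X.presheaf.germ O x hx (f.appLE W O hf a - h.appLE W O hh a) = 0) :
    ∃ V : X.Opens, x ∈ V ∧ V.ι ≫ f = V.ι ≫ h := by
  obtain ⟨V, hV, hxV, hVO⟩ := exists_isAffineOpen_mem_and_subset hx
  haveI : IsNoetherianRing Γ(X, V) := IsLocallyNoetherian.component_noetherian ⟨V, hV⟩
  let δ : Γ(Y, W) → Γ(X, V) := fun a =>
    f.appLE W V ((show V ≤ O from hVO).trans hf) a - h.appLE W V ((show V ≤ O from hVO).trans hh) a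
  let N : Ideal Γ(X, V) := Ideal.span (Set.range δ)
  have hres : ∀ a, δ a = X.presheaf.map (homOfLE (show V ≤ O from hVO)).op
      (f.appLE W O hf a - h.appLE W O hh a) := by
    intro a
    rw [map_sub, ← CommRingCat.comp_apply, ← CommRingCat.comp_apply, Scheme.Hom.appLE_map,
      Scheme.Hom.appLE_map]
  have hN : ∀ b ∈ N, X.presheaf.germ V x hxV b = 0 := by
    intro b hb
    induction hb using Submodule.span_induction with
    | mem z hz =>
      obtain ⟨a, rfl⟩ := hz
      rw [hres, TopCat.Presheaf.germ_res_apply]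
      exact hg a
    | zero => exact map_zero _
    | add b c _ _ hb hc => rw [map_add, hb, hc, add_zero]
    | smul r b _ hb => rw [smul_eq_mul, map_mul, hb, mul_zero]
  obtain ⟨n, w, hw⟩ := Submodule.fg_iff_exists_fin_generating_family.mp (IsNoetherian.noetherian N)
  have hz : ∀ i, ∃ (W' : X.Opens) (_ : x ∈ W') (iW : W' ⟶ V), X.presheaf.map iW.op (w i) = 0 := by
    intro i
    obtain ⟨W', hxW', iW, iW', hW'⟩ := X.presheaf.germ_eq x hxV hxV (w i) 0
      ((hN _ (hw ▸ Submodule.subset_span ⟨i, rfl⟩)).trans (map_zero _).symm)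
    exact ⟨W', hxW', iW, hW'.trans (map_zero _)⟩
  choose W' hxW' iW hzero using hz
  let V₀ : X.Opens := V ⊓ ⟨⋂ i, (W' i : Set X), isOpen_iInter_of_finite fun i => (W' i).2⟩
  have hxV₀ : x ∈ V₀ := ⟨hxV, Set.mem_iInter.mpr hxW'⟩
  have hkill : ∀ b ∈ N, X.presheaf.map (homOfLE (inf_le_left : V₀ ≤ V)).op b = 0 := by
    intro b hb
    rw [← hw] at hb
    induction hb using Submodule.span_induction with
    | mem z hz =>
      obtain ⟨i, rfl⟩ := hz
      have hle : V₀ ≤ W' i := fun q hq => Set.mem_iInter.mp hq.2 i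
      rw [← res_res (homOfLE hle) (iW i) (homOfLE (inf_le_left : V₀ ≤ V)) (w i), hzero]
      exact map_zero _
    | zero => exact map_zero _
    | add b c _ _ hb hc => rw [map_add, hb, hc, add_zero]
    | smul r b _ hb => rw [smul_eq_mul, map_mul, hb, mul_zero]
  have hfV : V₀ ≤ f ⁻¹ᵁ W := (inf_le_left : V₀ ≤ V).trans ((show V ≤ O from hVO).trans hf)
  have hhV : V₀ ≤ h ⁻¹ᵁ W := (inf_le_left : V₀ ≤ V).trans ((show V ≤ O from hVO).trans hh)
  have happ : f.appLE W V₀ hfV = h.appLE W V₀ hhV := by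
    ext a
    have := hkill (δ a) (Ideal.subset_span ⟨a, rfl⟩)
    rw [map_sub, sub_eq_zero, ← CommRingCat.comp_apply, ← CommRingCat.comp_apply,
      Scheme.Hom.appLE_map, Scheme.Hom.appLE_map] at this
    exact this
  refine ⟨V₀, hxV₀, ?_⟩
  rw [← Scheme.Hom.resLE_comp_ι f hfV, ← Scheme.Hom.resLE_comp_ι h hhV,
    ← IsAffineOpen.toSpecΓ_fromSpec hW, ← Category.assoc, ← Category.assoc,
    ← Scheme.Opens.toSpecΓ_SpecMap_appLE, ← Scheme.Opens.toSpecΓ_SpecMap_appLE, happ]

theorem exists_factor [IsLocallyNoetherian S] [IsLocallyNoetherian X] [Flat p] (q : Y ⟶ S)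
    (f : X ⟶ Y) (hf : f ≫ q = p) [IsSeparated q] [ConnectedSpace S]
    (h0 : ∀ s : S, Function.Bijective (pullback.snd p (S.fromSpecResidueField s)).appTop)
    (hcl : IsClosedMap p) (e : S ⟶ X) (he : e ≫ p = 𝟙 S)
    (s : S) (hs : ∀ x x' : X, p x = s → p x' = s → f x = f x') :
    ∃ t : S ⟶ Y, t ≫ q = 𝟙 S ∧ f = p ≫ t := by
  have het : (e ≫ f) ≫ q = 𝟙 S := by rw [Category.assoc, hf, he]
  refine ⟨e ≫ f, het, ?_⟩
  let h : X ⟶ Y := p ≫ e ≫ f
  have hpe : ∀ t, p (e t) = t := fun t => by rw [← Scheme.Hom.comp_apply, he]; rfl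
  have hhq : f ≫ q = h ≫ q := by
    simp only [h, Category.assoc, hf]
    rw [he, Category.comp_id]
  -- constant fibres lie in the agreement locus
  have hstep : ∀ t : S, (∀ x, p x = t → f x = f (e t)) →
      ∀ x, p x = t → ∃ V : X.Opens, x ∈ V ∧ V.ι ≫ f = V.ι ≫ h := by
    intro t ht x hx
    obtain ⟨W, hW, hyW, -⟩ := exists_isAffineOpen_mem_and_subset (x := f (e t)) (U := ⊤) trivial
    let O : X.Opens := f ⁻¹ᵁ W ⊓ h ⁻¹ᵁ W
    have hO : ∀ x, p x = t → x ∈ O := fun y hy => ⟨show f y ∈ W from (ht y hy).symm ▸ hyW,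
      show f (e (p y)) ∈ W from hy.symm ▸ hyW⟩
    refine exists_nhd_eq hW f h (O := O) inf_le_left inf_le_right (hO x hx) fun a => ?_
    refine germ_eq_zero p e he t (h0 t) hO _ (hO _ (hpe t)) ?_ x hx
    have key : ∀ (k k' : S ⟶ Y) (_ : k = k') (h₁ : e ⁻¹ᵁ O ≤ k ⁻¹ᵁ W) (h₂ : e ⁻¹ᵁ O ≤ k' ⁻¹ᵁ W),
        k.appLE W _ h₁ = k'.appLE W _ h₂ := by
      rintro k _ rfl _ _; rfl
    have he2 : e ≫ f = e ≫ h := by simp only [h, reassoc_of% he]
    have app_appLE : ∀ (k : X ⟶ Y) (hk : O ≤ k ⁻¹ᵁ W) (a : Γ(Y, W)),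
        e.app O (k.appLE W O hk a) = (e ≫ k).appLE W (e ⁻¹ᵁ O) (e.preimage_mono hk) a := by
      intro k hk a
      rw [← CommRingCat.comp_apply, Scheme.Hom.app_eq_appLE, Scheme.Hom.appLE_comp_appLE]
    rw [map_sub, map_sub, sub_eq_zero, app_appLE, app_appLE, key _ _ he2]
  let Ω : Set X := {x | ∃ V : X.Opens, x ∈ V ∧ V.ι ≫ f = V.ι ≫ h}
  have hΩ : IsOpen Ω := isOpen_iff_forall_mem_open.mpr fun x ⟨V, hxV, hV⟩ =>
    ⟨V, fun y hy => ⟨V, hy, hV⟩, V.2, hxV⟩
  let T : Set S := (p '' Ωᶜ)ᶜ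
  have hTo : IsOpen T := (hcl _ hΩ.isClosed_compl).isOpen_compl
  have hmem : ∀ t, (∀ x, p x = t → f x = f (e t)) → t ∈ T := fun t ht ⟨x, hx, hxt⟩ =>
    hx (hstep t ht x hxt)
  -- the agreement set of points is closed
  let d := pullback.fst (pullback.lift f h hhq) (pullback.diagonal q)
  have hdc : IsClosed (Set.range d) := d.isClosedEmbedding.isClosed_range
  have hd1 : ∀ x ∈ Ω, x ∈ Set.range d := by
    rintro x ⟨V, hxV, hV⟩
    let l : V.toScheme ⟶ pullback (pullback.lift f h hhq) (pullback.diagonal q) :=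
      pullback.lift V.ι (V.ι ≫ f) (by
        apply pullback.hom_ext
        · simp
          erw [pullback.lift_fst]
        · simp
          erw [pullback.lift_snd]
          exact hV.symm)
    exact ⟨l ⟨x, hxV⟩, by rw [← Scheme.Hom.comp_apply, pullback.lift_fst]; rfl⟩
  have hd2 : ∀ z, f (d z) = h (d z) := by
    intro z
    have h1 : d ≫ f = pullback.snd (pullback.lift f h hhq) (pullback.diagonal q) := by
      have := congrArg (fun k => k ≫ pullback.fst q q)
        (pullback.condition (f := pullback.lift f h hhq) (g := pullback.diagonal q))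
      simp [d] at this
      erw [pullback.lift_fst] at this
      exact this
    have h2 : d ≫ h = pullback.snd (pullback.lift f h hhq) (pullback.diagonal q) := by
      have := congrArg (fun k => k ≫ pullback.snd q q)
        (pullback.condition (f := pullback.lift f h hhq) (g := pullback.diagonal q))
      simp [d] at this
      erw [pullback.lift_snd] at this
      exact this
    rw [← Scheme.Hom.comp_apply, ← Scheme.Hom.comp_apply, h1, h2]
  have hTs : ∀ a b : S, a ⤳ b → a ∈ T → b ∈ T := by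
    intro a b hab ha
    refine hmem b fun x hx => ?_
    obtain ⟨x', hx', hpx'⟩ := exists_generalization p (x := x) (hx.symm ▸ hab)
    have hΩ' : x' ∈ Ω := by_contra fun hn => ha ⟨x', hn, hpx'⟩
    obtain ⟨z, hz⟩ := hx'.mem_closed hdc (hd1 _ hΩ')
    have := hd2 z
    rw [hz] at this
    rw [this, ← hx]
    rfl
  have hsT : s ∈ T := hmem s fun x hx => hs _ _ hx (hpe s)
  have hall : T = Set.univ :=
    IsClopen.eq_univ ⟨isClosed_of_isOpen_of_stable hTo hTs, hTo⟩ ⟨s, hsT⟩
  refine Scheme.hom_ext_of_forall _ _ fun x => ?_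
  have : x ∈ Ω := by
    by_contra hn
    have : p x ∈ T := hall ▸ Set.mem_univ _
    exact this ⟨x, hn, rfl⟩
  exact this

end Groth.Agent.RigidClosed
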